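import Groth.Agent.VBCurve.K707.Semi
import Groth.Agent.VBCurve.K708.DualDeg
import Groth.Agent.VBCurve.K705.Setup

/-!
# The numerical step of the strange duality argument (S16926, node NUM)

`V` is a vector bundle of rank `r + m` and degree `m (g - 1)` on a curve of genus `g ≥ 2` such that
`χ(Hom(W, V / W)) ≥ -1` for every proper non-zero subbundle `W` (for instance `h¹(Hom(W, V / W)) ≤ 1`).
If `S ⊆ V` has rank `r` and degree `0`, then `V / S` is locally free, and `S`, `V / S` are semistable.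
-/

set_option autoImplicit false
universe u

open CategoryTheory CategoryTheory.Limits AlgebraicGeometry TopologicalSpace Opposite

namespace K885.Num

open MonoidalCategory
open scoped Groth.Agent.Dcoh.MonCat
open Groth.Agent Groth.Agent.CycB.StalkExact Groth.Agent.VarietyA.DegRank K707.Base K707.Deg K707.Slope K707.Semi

variable {k : Type u} [Field k] {X : Scheme.{u}} [X.Over (Spec (CommRingCat.of k))]
  [IsIntegral X] [IsProper (X ↘ (Spec (CommRingCat.of k)))]

variable (k) in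
/-- `χ(Hom(W, V / W)) ≥ -1` for all proper non-zero subbundles `W` of `V`, in terms of degrees and ranks. -/
def NumSub (V : X.Modules) : Prop :=
  ∀ (W Q : X.Modules) (i : W ⟶ V) (p : V ⟶ Q) (w : i ≫ p = 0), (ShortComplex.mk i p w).ShortExact →
    FlatMod.IsFinLocFree W → FlatMod.IsFinLocFree Q → 0 < rk W → 0 < rk Q →
    -1 ≤ (rk W : ℤ) * dg k Q - rk Q * dg k W + rk W * rk Q * Curv2.euler k X (Coh.structureModule X)

variable (k) in
/-- `h¹(Hom(W, V / W)) ≤ 1` for all proper non-zero subbundles `W` of `V` (`W'` is a dual of `W`). -/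
def SubOne (V : X.Modules) : Prop :=
  ∀ (W Q : X.Modules) (i : W ⟶ V) (p : V ⟶ Q) (w : i ≫ p = 0), (ShortComplex.mk i p w).ShortExact →
    FlatMod.IsFinLocFree W → FlatMod.IsFinLocFree Q → 0 < rk W → 0 < rk Q →
    ∃ (W' : X.Modules) (_ : ExactPairing W W'), Module.finrank k (Coh.HH X (CohB1.tensorMod Q W') 1) ≤ 1

theorem SubOne.numSub (C : Crv k X) {V : X.Modules} (h : SubOne k V) : NumSub k V := by
  intro W Q i p w hS hW hQ h0 h1
  obtain ⟨W', hW', h2⟩ := h W Q i p w hS hW hQ h0 h1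
  rw [← K708.DualDeg.euler_hom C hW hQ W', K705.Setup.euler_eq C]
  have h3 : (0 : ℤ) ≤ Module.finrank k (Coh.HH X (CohB1.tensorMod Q W') 0) := by positivity
  have h4 : (Module.finrank k (Coh.HH X (CohB1.tensorMod Q W') 1) : ℤ) ≤ 1 := by exact_mod_cast h2
  omega

section

theorem main_aux {g r : ℕ} (hg : 2 ≤ g) (w : ℤ) (h0 : 0 ≤ w) (h1 : w ≤ r) : w * (w - r) * ((g : ℤ) - 1) ≤ 0 := by
  have : (2 : ℤ) ≤ g := by exact_mod_cast hg
  have h2 : w * (w - r) ≤ 0 := mul_nonpos_of_nonneg_of_nonpos h0 (by linarith)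
  exact mul_nonpos_of_nonpos_of_nonneg h2 (by linarith)

variable (C : Crv k X) {g r m : ℕ} (hg : 2 ≤ g)
  (hχ : Curv2.euler k X (Coh.structureModule X) = 1 - (g : ℤ)) {V : X.Modules}
  (hV : FlatMod.IsFinLocFree V) (hrk : rk V = r + m) (hdg : dg k V = m * ((g : ℤ) - 1)) (hN : NumSub k V)

include C hχ hV hrk hdg hN

/-- The bound on degrees of subbundles. -/
theorem dg_le {W Q : X.Modules} (i : W ⟶ V) (p : V ⟶ Q) (w : i ≫ p = 0)
    (hS : (ShortComplex.mk i p w).ShortExact) (hW : FlatMod.IsFinLocFree W) (hQ : FlatMod.IsFinLocFree Q)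
    (h0 : 0 < rk W) (h1 : 0 < rk Q) :
    ((r : ℤ) + m) * dg k W ≤ rk W * ((rk W : ℤ) - r) * ((g : ℤ) - 1) + 1 := by
  have e1 := rk_add' k _ hS (coh_of_vb hV)
  have e2 := dg_add k _ hS (coh_of_vb hW) (coh_of_vb hV) (coh_of_vb hQ)
  simp only at e1 e2
  have h2 := hN W Q i p w hS hW hQ h0 h1
  rw [hχ] at h2
  rw [hrk] at e1
  rw [hdg] at e2
  have e1' : (r : ℤ) + m = rk W + rk Q := by exact_mod_cast e1
  have e3 : (rk Q : ℤ) = r + m - rk W := by linarith
  have e4 : dg k Q = m * ((g : ℤ) - 1) - dg k W := by linarith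
  rw [e3, e4] at h2
  nlinarith

include hg

variable (hr : 0 < r) (hm : 0 < m)

include hr hm

/-- Subsheaves of rank at most `r` have degree at most `0`. -/
theorem dg_nonpos {F : X.Modules} (i : F ⟶ V) [Mono i] (hF : Coh.IsCoh F) (hle : rk F ≤ r) : dg k F ≤ 0 := by
  rcases Nat.eq_zero_or_pos (rk F) with h0 | h0
  · rw [dg_of_vb_of_rk_eq_zero C (vb_of_mono C i hF hV) h0]
  obtain ⟨G', Q, a, j, q, w, ha, haj, hS, hG', hQ, e1, e2, e3, e4⟩ := exists_saturation C i hF (coh_of_vb hV)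
  have hj : Mono j := hS.mono_f
  have h1 := dg_le C hχ hV hrk hdg hN j q w hS (vb_of_mono C j hG' hV) hQ (by omega) (by omega)
  have h2 := main_aux hg (rk G') (by positivity)
    (by exact_mod_cast (by omega : rk G' ≤ r))
  have h3 : ((r : ℤ) + m) * dg k G' ≤ 1 := by linarith
  by_contra h4
  have h5 : 1 ≤ dg k G' := by omega
  have hr' : (1 : ℤ) ≤ r := by exact_mod_cast hr
  have hm' : (1 : ℤ) ≤ m := by exact_mod_cast hm
  nlinarith

variable {S Q : X.Modules} (i : S ⟶ V) (p : V ⟶ Q) (w : i ≫ p = 0) (hS : (ShortComplex.mk i p w).ShortExact)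
  (hSc : Coh.IsCoh S) (hQc : Coh.IsCoh Q) (hSr : rk S = r) (hSd : dg k S = 0)

include hS hSc hSr hSd

/-- The quotient is locally free. -/
theorem vb_quot : FlatMod.IsFinLocFree Q := by
  have hi : Mono i := hS.mono_f
  obtain ⟨G', Q', a, j, q, w', ha, haj, hS', hG', hQ', e1, e2, e3, e4⟩ := exists_saturation C i hSc (coh_of_vb hV)
  have hj : Mono j := hS'.mono_f
  have h1 := dg_nonpos C hg hχ hV hrk hdg hN hr hm j hG' (by omega)
  have h2 : IsIso a := isIso_of_mono C a hSc hG' (by omega) (by omega)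
  have hc := hS.gIsCokernel
  have hc' := hS'.gIsCokernel
  have hp : Epi p := hS.epi_g
  have hq : Epi q := hS'.epi_g
  have z1 : j ≫ p = 0 := by rw [← cancel_epi a, ← Category.assoc, haj, w, comp_zero]
  have z2 : i ≫ q = 0 := by rw [← haj, Category.assoc, w', comp_zero]
  obtain ⟨u, hu⟩ := CokernelCofork.IsColimit.desc' hc' p z1
  obtain ⟨v, hv⟩ := CokernelCofork.IsColimit.desc' hc q z2
  change q ≫ u = p at hu
  change p ≫ v = q at hv
  refine vb_iso (?_ : Q' ≅ Q) hQ'
  exact {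
    hom := u
    inv := v
    hom_inv_id := by rw [← cancel_epi q, ← Category.assoc, hu, hv, Category.comp_id]
    inv_hom_id := by rw [← cancel_epi p, ← Category.assoc, hv, hu, Category.comp_id] }

/-- The subsheaf is semistable (of degree `0`). -/
theorem ss_sub : SS k S := by
  have hi : Mono i := hS.mono_f
  intro F j hj hF
  have h1 : Mono (j ≫ i) := mono_comp _ _
  have h2 := rk_le_of_mono C j (coh_of_vb hF) hSc
  have h3 := dg_nonpos C hg hχ hV hrk hdg hN hr hm (j ≫ i) (coh_of_vb hF) (by omega)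
  rw [hSd, zero_mul]
  exact mul_nonpos_of_nonpos_of_nonneg h3 (by positivity)

include hQc

theorem rk_dg_quot : rk Q = m ∧ dg k Q = m * ((g : ℤ) - 1) := by
  have e1 := rk_add' k _ hS (coh_of_vb hV)
  have e2 := dg_add k _ hS hSc (coh_of_vb hV) hQc
  simp only at e1 e2
  omega

/-- The quotient is semistable (of slope `g - 1`). -/
theorem ss_quot : SS k Q := by
  have hp : Epi p := hS.epi_g
  have hQv := vb_quot C hg hχ hV hrk hdg hN hr hm i p w hS hSc hSr hSd
  obtain ⟨hQ1, hQ2⟩ := rk_dg_quot C hg hχ hV hrk hdg hN hr hm i p w hS hSc hQc hSr hSd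
  refine ss_of_quot C hQv fun Q'' q hq hQ'' => ?_
  rcases Nat.eq_zero_or_pos (rk Q'') with h0 | h0
  · rw [dg_of_vb_of_rk_eq_zero C hQ'' h0, h0]; simp
  have hle := rk_le_of_epi C q hQc (coh_of_vb hQ'')
  have hpq : Epi (p ≫ q) := epi_comp _ _
  obtain ⟨e1, e2⟩ := epi_numbers C (p ≫ q) (coh_of_vb hV) (coh_of_vb hQ'')
  have h1 := dg_le C hχ hV hrk hdg hN (kernel.ι (p ≫ q)) (p ≫ q) (kernel.condition _)
    (kernel_shortExact (p ≫ q)) (vb_kernel C (p ≫ q) hV (coh_of_vb hQ'')) hQ'' (by omega) h0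
  rw [hrk] at e1
  rw [hdg] at e2
  have e1' : (rk (kernel (p ≫ q)) : ℤ) = r + m - rk Q'' := by
    have : (r : ℤ) + m = rk (kernel (p ≫ q)) + rk Q'' := by exact_mod_cast e1
    linarith
  have e2' : dg k (kernel (p ≫ q)) = m * ((g : ℤ) - 1) - dg k Q'' := by linarith
  rw [e1', e2'] at h1
  rw [hQ1, hQ2]
  have hg' : (1 : ℤ) ≤ (g : ℤ) - 1 := by have : (2 : ℤ) ≤ g := by exact_mod_cast hg
                                         linarith
  have hr' : (1 : ℤ) ≤ r := by exact_mod_cast hr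
  have hm' : (1 : ℤ) ≤ m := by exact_mod_cast hm
  have hle' : (rk Q'' : ℤ) ≤ m := by rw [hQ1] at hle; exact_mod_cast hle
  have h0' : (1 : ℤ) ≤ rk Q'' := by exact_mod_cast h0
  -- the claim `(g - 1) rk Q'' ≤ dg Q''`
  have key : ((g : ℤ) - 1) * rk Q'' ≤ dg k Q'' := by
    by_contra hlt
    have hlt' : dg k Q'' ≤ ((g : ℤ) - 1) * rk Q'' - 1 := by omega
    generalize (rk Q'' : ℤ) = t at *
    generalize dg k Q'' = δ at *
    generalize (g : ℤ) - 1 = c at *
    have a1 : ((r : ℤ) + m) * (m * c - (c * t - 1)) ≤ ((r : ℤ) + m) * (m * c - δ) :=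
      mul_le_mul_of_nonneg_left (by linarith) (by positivity)
    have a2 : ((r : ℤ) + m) * (m * c - (c * t - 1)) ≤ (r + m - t) * (r + m - t - r) * c + 1 := by linarith
    have a3 : 0 ≤ t * (m - t) * c := by
      apply mul_nonneg (mul_nonneg (by linarith) (by linarith)) (by linarith)
    nlinarith
  have : m * ((g : ℤ) - 1) * rk Q'' = (((g : ℤ) - 1) * rk Q'') * m := by ring
  rw [this]
  exact mul_le_mul_of_nonneg_right key (by positivity)

end

end K885.Num
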