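import Groth.Agent.VBCurve.K708.HomVan

/-!
# Two different subbundles of the same rank and degree (S16926)

`exists_iso`: if `S₁ → V → V / S₂` is zero and `S₁`, `S₂` have the same rank and degree then `S₁ = S₂` as submodules
of `V`.  `h0_pos`, `h1_pos`: otherwise `H⁰(Hom(S₁, V / S₂)) ≠ 0`, and `H¹ ≠ 0` if the Euler characteristic is not
positive.
-/

set_option autoImplicit false
universe u

open CategoryTheory CategoryTheory.Limits AlgebraicGeometry TopologicalSpace Opposite Module MonoidalCategory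

namespace K885.Vanish

open Groth.Agent Groth.Agent.VarietyA.DegRank K707.Base K707.Deg K707.Slope K707.Semi K707.TensL
open K708.Coho K708.SSH0 K708.PtTwist K708.DualDeg
open scoped Groth.Agent.Dcoh.MonCat

variable {k : Type u} [Field k] {X : Scheme.{u}} [X.Over (Spec (CommRingCat.of k))]
  [IsIntegral X] [IsProper (X ↘ (Spec (CommRingCat.of k)))]

variable (C : Crv k X) {V S₁ S₂ Q₂ : X.Modules} (i₁ : S₁ ⟶ V) [Mono i₁] (i₂ : S₂ ⟶ V) (p₂ : V ⟶ Q₂) (w : i₂ ≫ p₂ = 0)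
  (hS : (ShortComplex.mk i₂ p₂ w).ShortExact) (h₁ : Coh.IsCoh S₁) (h₂ : Coh.IsCoh S₂)
  (hr : rk S₂ ≤ rk S₁) (hd : dg k S₂ ≤ dg k S₁)

include C hS h₁ h₂ hr hd

theorem exists_iso (h : i₁ ≫ p₂ = 0) : ∃ e : S₁ ≅ S₂, e.hom ≫ i₂ = i₁ := by
  have hi : Mono i₂ := hS.mono_f
  let u : S₁ ⟶ S₂ := hS.fIsKernel.lift (KernelFork.ofι i₁ h)
  have hu : u ≫ i₂ = i₁ := hS.fIsKernel.fac (KernelFork.ofι i₁ h) WalkingParallelPair.zero
  have hm : Mono u := by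
    have : Mono (u ≫ i₂) := by rw [hu]; infer_instance
    exact mono_of_mono u i₂
  have := isIso_of_mono C u h₁ h₂ hr hd
  exact ⟨asIso u, hu⟩

variable (hne : ¬ ∃ e : S₁ ≅ S₂, e.hom ≫ i₂ = i₁)

include hne

theorem ne_zero : i₁ ≫ p₂ ≠ 0 := fun h => hne (exists_iso C i₁ i₂ p₂ w hS h₁ h₂ hr hd h)

/-- `H⁰(Hom(S₁, V / S₂)) ≠ 0`. -/
theorem h0_pos (hv : FlatMod.IsFinLocFree S₁) (hQ : Coh.IsCoh Q₂) (S' : X.Modules) [ExactPairing S₁ S'] :
    0 < finrank k (Coh.HH X (CohB1.tensorMod Q₂ S') 0) := by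
  have hS' : FlatMod.IsFinLocFree S' := vb_iso (dualIso S₁ S').symm (Groth.Agent.Krr.H492.DualK.isFinLocFree_dl hv)
  have hc : Coh.IsCoh (CohB1.tensorMod Q₂ S') := coh_tensor (isFinLocFreeOfRank_rk hS') hQ
  have := Groth.Agent.S0002.result k X _ hc 0
  rw [Nat.pos_iff_ne_zero]
  intro h0
  have h1 : Subsingleton (Coh.HH X (CohB1.tensorMod Q₂ S') 0) := Module.finrank_zero_iff.mp h0
  exact ne_zero C i₁ i₂ p₂ w hS h₁ h₂ hr hd hne ((K708.HomH0.forall_hom_eq_zero_iff S₁ S' Q₂).mpr h1 _)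

/-- `H¹(Hom(S₁, V / S₂)) ≠ 0` if `χ(Hom(S₁, V / S₂)) ≤ 0`. -/
theorem h1_pos (hv : FlatMod.IsFinLocFree S₁) (hQ : Coh.IsCoh Q₂) (S' : X.Modules) [ExactPairing S₁ S']
    (hχ : Curv2.euler k X (CohB1.tensorMod Q₂ S') ≤ 0) :
    0 < finrank k (Coh.HH X (CohB1.tensorMod Q₂ S') 1) := by
  have h0 := h0_pos C i₁ i₂ p₂ w hS h₁ h₂ hr hd hne hv hQ S'
  rw [K708.Coho.euler_eq k C.dim.le] at hχ
  omega

end K885.Vanish
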