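import Groth.Agent.BunMod.K890.Seed
import Groth.Agent.BunMod.K885.Vanish
import Groth.Agent.BunMod.K706.TensFam
import Groth.Agent.BunMod.K54.Supp
import Groth.Agent.BunMod.K356.Seq
import Groth.Agent.BunMod.K319.SumFam
import Groth.Agent.BunMod.K360.FitTheta
import Groth.Agent.VBCurve.K706.InvTens

/-!
# Two subbundles of the same member of the cokernel family over a field (S16926)

`X` a smooth proper geometrically connected curve over `k`, `V` a member of the family of cokernels over a field `L`,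
`S₁, S₂ ⊆ V` subbundles of rank `r` and degree `0` with semistable `E_i = S_i^∨`, `F_i = V/S_i ⊗ N⁻¹`.

* `thetaIdeal_eq_bot`: if `S₁ → V/S₂` is not zero then the theta ideal of `E₁ ⊗ F₂` is zero;
* `iso_of_zero`: if `S₁ → V/S₂` is zero then `E₁ ≅ E₂` and `F₁ ≅ F₂` (and `exists_iso_S`: `S₁ = S₂` in `V`);
* `thetaIdeal_eq_bot_iff`: over a field the theta ideal of a family is zero iff `H¹ ≠ 0`, and otherwise it is everything;
* `euler_zero`: `χ(G ⊗ N) = 0` for an admissible `G` of degree `0` over any field.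
-/

set_option autoImplicit false
universe u
open CategoryTheory CategoryTheory.Limits AlgebraicGeometry MonoidalCategory

namespace K885.SdVan

open Groth.Agent K140.BM K824.Join K890.KS K890.Seed K707.Base K707.Deg K707.Slope K707.TensL
  Groth.Agent.VarietyA.DegRank
open scoped Groth.Agent.Dcoh.MonCat

variable {k : Type u} [Field k] {X : Scheme.{u}} [X.Over (Spec (CommRingCat.of k))]

section theta

variable (L : Type u) [Field L] [Algebra k L]

/-- Ideals of functions on `Spec L`. -/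
theorem ideal_cases (J : (SpA k L).left.IdealSheafData) : J = ⊥ ∨ J = ⊤ := by
  have hA : IsAffine (SpA k L).left := inferInstanceAs (IsAffine (Spec (CommRingCat.of L)))
  have hs : Function.Surjective (fn k : L →+* Γ((SpA k L).left, ⊤)) := K360.FitTheta.fn_bijective.2
  have h2 := Ideal.map_comap_of_surjective (fn k : L →+* Γ((SpA k L).left, ⊤)) hs
    (J.ideal ⟨⊤, isAffineOpen_top (SpA k L).left⟩)
  rcases Ideal.eq_bot_or_top ((J.ideal ⟨⊤, isAffineOpen_top (SpA k L).left⟩).comap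
    (fn k : L →+* Γ((SpA k L).left, ⊤))) with h1 | h1
  · left
    apply Scheme.IdealSheafData.ext_of_isAffine
    rw [h1, Ideal.map_bot] at h2
    exact h2.symm
  · right
    apply Scheme.IdealSheafData.ext_of_isAffine
    rw [h1, Ideal.map_top] at h2
    exact h2.symm

variable [IsProper (X ↘ Spec (CommRingCat.of k))] (hdim : topologicalKrullDim X ≤ 1) {N : X.Modules}

include hdim in
/-- The theta ideal over a field is everything iff `H¹ = 0`. -/
theorem thetaIdeal_eq_top_iff {G : (PicF.XT (st k X) (SpA k L)).Modules}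
    (hG : FlatMod.IsFinLocFree (CohB1.tensorMod G (cst k (SpA k L) N))) :
    thetaIdeal k N (SpA k L) G = ⊤ ↔
      Subsingleton (Coh.HH (PicF.XT (st k X) (SpA k L)) (CohB1.tensorMod G (cst k (SpA k L) N)) 1) := by
  have hA : IsAffine (SpA k L).left := inferInstanceAs (IsAffine (Spec (CommRingCat.of L)))
  have h3 := K360.FitTheta.thetaIdeal_eq_fitt (T := SpA k L) (N := N) (E := G) hdim hG ⟨Iso.refl _⟩
  have q1 : Coh.IsQCoh (CohB1.tensorMod G (cst k (SpA k L) N)) :=
    Groth.Agent.PerfA.QCohEpi.isQCoh_of_isFinLocFree hG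
  have hft := K54.Theta.isFT_Rpush hdim hG
  have hq : Coh.IsQCoh ((Coh.Rpush (PicF.XTproj (st k X) (SpA k L)) 1).obj
      (CohB1.tensorMod G (cst k (SpA k L) N))) := CohqA.RelCoh.isQCoh_Rpush _ _ q1 1
  have hfin := (CohqB.FiniteType2.isFT_iff_finite_sections _).1 hft ⊤ (isAffineOpen_top (SpA k L).left)
  let b := LoccohB.TopRepSec.beta (PicF.XTproj (st k X) (SpA k L)) 1 (CohB1.tensorMod G (cst k (SpA k L) N)) q1
  have h0 : thetaIdeal k N (SpA k L) G = ⊤ ↔ Fitt.ideal Γ((SpA k L).left, ⊤)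
      Γ((Coh.Rpush (PicF.XTproj (st k X) (SpA k L)) 1).obj (CohB1.tensorMod G (cst k (SpA k L) N)), ⊤) 0 = ⊤ := by
    rw [← h3]
    constructor
    · intro h
      rw [h]
      rfl
    · intro h
      exact Scheme.IdealSheafData.ext_of_isAffine h
  rw [h0, K54.Supp.fitt_top_iff]
  exact ⟨fun h => b.symm.toEquiv.subsingleton, fun h => b.toEquiv.subsingleton⟩

include hdim in
/-- The theta ideal over a field is zero iff `H¹ ≠ 0`. -/
theorem thetaIdeal_eq_bot_iff {G : (PicF.XT (st k X) (SpA k L)).Modules}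
    (hG : FlatMod.IsFinLocFree (CohB1.tensorMod G (cst k (SpA k L) N))) :
    thetaIdeal k N (SpA k L) G = ⊥ ↔
      ¬ Subsingleton (Coh.HH (PicF.XT (st k X) (SpA k L)) (CohB1.tensorMod G (cst k (SpA k L) N)) 1) := by
  rw [← thetaIdeal_eq_top_iff L hdim hG]
  constructor
  · intro h h'
    have hA : IsAffine (SpA k L).left := inferInstanceAs (IsAffine (Spec (CommRingCat.of L)))
    have h1 : (⊥ : (SpA k L).left.IdealSheafData).ideal ⟨⊤, isAffineOpen_top (SpA k L).left⟩ =
        (⊤ : (SpA k L).left.IdealSheafData).ideal ⟨⊤, isAffineOpen_top (SpA k L).left⟩ := by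
      rw [← h, h']
    have h2 : (⊥ : Ideal Γ((SpA k L).left, ⊤)) = ⊤ := h1
    have h3 : (fn k 1 : Γ((SpA k L).left, ⊤)) ∈ (⊥ : Ideal Γ((SpA k L).left, ⊤)) := by
      rw [h2]
      exact Submodule.mem_top
    rw [Ideal.mem_bot] at h3
    have hi : Function.Injective (fn k : L →+* Γ((SpA k L).left, ⊤)) := K360.FitTheta.fn_bijective.1
    exact one_ne_zero (hi (h3.trans (map_zero _).symm))
  · intro h
    exact (ideal_cases L _).resolve_right h

end theta

section facts

variable [IsProper (X ↘ Spec (CommRingCat.of k))] [Smooth (X ↘ Spec (CommRingCat.of k))]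
  [GeometricallyConnected (X ↘ Spec (CommRingCat.of k))] (hdim : topologicalKrullDim X = 1)
  (L : Type u) [Field L] [Algebra k L]

omit [Smooth (X ↘ Spec (CommRingCat.of k))] [GeometricallyConnected (X ↘ Spec (CommRingCat.of k))] in
/-- The degrees of admissible families over the field `L`. -/
theorem deg_zero {r : ℕ} {E : (PicF.XT (st k X) (SpA k L)).Modules} (hE : BunMod.ussOK (st k X) r 0 (SpA k L) E) :
    letI : (PicF.XT (st k X) (SpA k L)).Over (Spec (CommRingCat.of L)) := ⟨PicF.XTproj (st k X) (SpA k L)⟩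
    Curv2.deg L (PicF.XT (st k X) (SpA k L)) E r = 0 := by
  let _ : (PicF.XT (st k X) (SpA k L)).Over (Spec (CommRingCat.of L)) := ⟨PicF.XTproj (st k X) (SpA k L)⟩
  have hp : IsProper (PicF.XT (st k X) (SpA k L) ↘ Spec (CommRingCat.of L)) :=
    inferInstanceAs (IsProper (pullback.snd (st k X) (SpA k L).hom))
  let Ω := AlgebraicClosure L
  let t : Spec (CommRingCat.of Ω) ⟶ (SpA k L).left := Spec.map (CommRingCat.ofHom (algebraMap L Ω))
  have h1 := ((K319.SumFam.ussOK_iff.1 hE).2 Ω t).2.1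
  let _ : (PicF.XT (st k X) (Over.mk (t ≫ (SpA k L).hom))).Over (Spec (CommRingCat.of Ω)) :=
    ⟨PicF.XTproj (st k X) (Over.mk (t ≫ (SpA k L).hom))⟩
  have H : IsPullback (PicF.XTmap (st k X) (Over.homMk t rfl : Over.mk (t ≫ (SpA k L).hom) ⟶ SpA k L))
      (PicF.XT (st k X) (Over.mk (t ≫ (SpA k L).hom)) ↘ Spec (CommRingCat.of Ω))
      (PicF.XT (st k X) (SpA k L) ↘ Spec (CommRingCat.of L)) (Spec.map (CommRingCat.ofHom (algebraMap L Ω))) :=
    K54.Theta.isPullback_XTmap _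
  have h2 := Groth.Agent.CurvesB.VABaseChange.deg_eq (k := L) (K := Ω) H E
    (Groth.Agent.PerfA.QCohEpi.isQCoh_of_isFinLocFree (isFinLocFree_of_rank hE.1)) r
  exact h2.symm.trans h1

include hdim in
/-- `χ(G ⊗ N) = 0` for `G` of degree `0` over the field `L`. -/
theorem euler_zero {g n : ℕ} {N : X.Modules}
    (hN : PicF.IsInvertible N) (hNd : Curv2.deg k X N 1 = (g : ℤ) - 1)
    (hχ : Curv2.euler k X (Coh.structureModule X) = 1 - (g : ℤ))
    {G : (PicF.XT (st k X) (SpA k L)).Modules} (hG : BunMod.ussOK (st k X) n 0 (SpA k L) G) :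
    letI : (PicF.XT (st k X) (SpA k L)).Over (Spec (CommRingCat.of L)) := ⟨PicF.XTproj (st k X) (SpA k L)⟩
    Curv2.euler L (PicF.XT (st k X) (SpA k L)) (CohB1.tensorMod G (cst k (SpA k L) N)) = 0 := by
  have h0 := deg_zero L hG
  let _ : (PicF.XT (st k X) (SpA k L)).Over (Spec (CommRingCat.of L)) := ⟨PicF.XTproj (st k X) (SpA k L)⟩
  obtain ⟨i1, i2, i3, i4, C⟩ := K319.SumFam.crv_fib (X := X) hdim (Spec.map (CommRingCat.ofHom (algebraMap k L)))
  have hp : IsProper (PicF.XT (st k X) (SpA k L) ↘ Spec (CommRingCat.of L)) := i2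
  have i1' : IsIntegral (PicF.XT (st k X) (SpA k L)) := i1
  have H : IsPullback (pullback.fst (st k X) (SpA k L).hom)
      (PicF.XT (st k X) (SpA k L) ↘ Spec (CommRingCat.of L))
      (X ↘ Spec (CommRingCat.of k)) (Spec.map (CommRingCat.ofHom (algebraMap k L))) :=
    IsPullback.of_hasPullback _ _
  have h1 := Groth.Agent.CurvesB.VABaseChange.deg_eq (k := k) (K := L) H N
    (Groth.Agent.Ega2.QCohLocal.isQCoh_of_isInvertible hN) 1
  have h2 := Groth.Agent.CurvesB.VABaseChange.euler_structure_eq (k := k) (K := L) H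
  have h3 := K757.Geo.deg_tw (k := L) (X := PicF.XT (st k X) (SpA k L)) C hG.1
    (BunMod.K356.Seq.inv_cst (SpA k L) hN)
  rw [h0, h1, hNd, Curv2.deg, h2, hχ] at h3
  linarith

include hdim in
/-- The subbundle has rank `r` and degree `0`. -/
theorem deg_S {r : ℕ} {S E : (PicF.XT (st k X) (SpA k L)).Modules} (p : Nonempty (ExactPairing S E))
    (hE : BunMod.ussOK (st k X) r 0 (SpA k L) E) :
    letI : (PicF.XT (st k X) (SpA k L)).Over (Spec (CommRingCat.of L)) := ⟨PicF.XTproj (st k X) (SpA k L)⟩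
    FlatMod.IsFinLocFreeOfRank r S ∧ Curv2.deg L (PicF.XT (st k X) (SpA k L)) S r = 0 := by
  have h0 := deg_zero L hE
  let _ : (PicF.XT (st k X) (SpA k L)).Over (Spec (CommRingCat.of L)) := ⟨PicF.XTproj (st k X) (SpA k L)⟩
  obtain ⟨i1, i2, i3, i4, C⟩ := K319.SumFam.crv_fib (X := X) hdim (Spec.map (CommRingCat.ofHom (algebraMap k L)))
  have hp : IsProper (PicF.XT (st k X) (SpA k L) ↘ Spec (CommRingCat.of L)) := i2
  have i1' : IsIntegral (PicF.XT (st k X) (SpA k L)) := i1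
  obtain ⟨p⟩ := p
  let _ : ExactPairing E S := BraidedCategory.exactPairing_swap S E
  have h1 := K708.Dual.rank_dual hE.1 S
  refine ⟨h1, ?_⟩
  rw [← dg_of_rank L h1, K708.DualDeg.dg_dual C (isFinLocFree_of_rank hE.1) S, dg_of_rank L hE.1, h0, neg_zero]

end facts

section pairs

variable {K G : X.Modules} {M : ℕ} {e : Fin M → (K ⟶ G)} {N : X.Modules} {r m : ℕ} {R : Type u} [CommRing R]
  [Algebra k R] {c : Fin M → R} (s t : SubFam k e R c N r m)

/-- The same subbundle. -/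
theorem iso_of_iso (hN : PicF.IsInvertible N) (a : s.S ≅ t.S) (ha : a.hom ≫ t.i = s.i) :
    Nonempty (s.E ≅ t.E) ∧ Nonempty (s.F ≅ t.F) := by
  obtain ⟨p₁⟩ := s.pair
  obtain ⟨p₂⟩ := t.pair
  obtain ⟨q₁⟩ := s.tw
  obtain ⟨q₂⟩ := t.tw
  have e1 : s.i ≫ t.p = 0 := by rw [← ha, Category.assoc, t.w, comp_zero]
  have e2 : t.i ≫ s.p = 0 := by
    rw [← cancel_epi a.hom, ← Category.assoc, ha, s.w, comp_zero]
  have m1 := s.ex.epi_g
  have m2 := t.ex.epi_g
  let f : s.Q ⟶ t.Q := s.ex.gIsCokernel.desc (CokernelCofork.ofπ t.p e1)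
  let b : t.Q ⟶ s.Q := t.ex.gIsCokernel.desc (CokernelCofork.ofπ s.p e2)
  have hf : s.p ≫ f = t.p := s.ex.gIsCokernel.fac (CokernelCofork.ofπ t.p e1) WalkingParallelPair.one
  have hb : t.p ≫ b = s.p := t.ex.gIsCokernel.fac (CokernelCofork.ofπ s.p e2) WalkingParallelPair.one
  let q : s.Q ≅ t.Q :=
    { hom := f
      inv := b
      hom_inv_id := by
        have : Epi s.p := m1
        rw [← cancel_epi s.p, ← Category.assoc, hf, hb, Category.comp_id]
      inv_hom_id := by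
        have : Epi t.p := m2
        rw [← cancel_epi t.p, ← Category.assoc, hb, hf, Category.comp_id] }
  refine ⟨⟨rightDualIso p₁ (exactPairingCongrLeft a)⟩, ?_⟩
  exact K706.InvTens.cancel (Groth.Agent.Fdesc.LocGen.isInvertible_pullback _ hN) (q₁ ≪≫ q ≪≫ q₂.symm)

end pairs

section field

variable [IsProper (X ↘ Spec (CommRingCat.of k))] [Smooth (X ↘ Spec (CommRingCat.of k))]
  [GeometricallyConnected (X ↘ Spec (CommRingCat.of k))] (hdim : topologicalKrullDim X = 1)
  {K G : X.Modules} {M : ℕ} {e : Fin M → (K ⟶ G)} {N : X.Modules} {r m : ℕ} {L : Type u} [Field L] [Algebra k L]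
  {c : Fin M → L} (s t : SubFam k e L c N r m)

include hdim in
/-- The subbundles agree if `S₁ → V/S₂` is zero. -/
theorem exists_iso_S (h : s.i ≫ t.p = 0) : ∃ a : s.S ≅ t.S, a.hom ≫ t.i = s.i := by
  obtain ⟨r1, d1⟩ := deg_S hdim L s.pair s.okE
  obtain ⟨r2, d2⟩ := deg_S hdim L t.pair t.okE
  let _ : (PicF.XT (st k X) (SpA k L)).Over (Spec (CommRingCat.of L)) := ⟨PicF.XTproj (st k X) (SpA k L)⟩
  obtain ⟨i1, i2, i3, i4, D⟩ := K319.SumFam.crv_fib (X := X) hdim (Spec.map (CommRingCat.ofHom (algebraMap k L)))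
  have hp : IsProper (PicF.XT (st k X) (SpA k L) ↘ Spec (CommRingCat.of L)) := i2
  have i1' : IsIntegral (PicF.XT (st k X) (SpA k L)) := i1
  have hm : Mono s.i := s.ex.mono_f
  have := isLocNoeth D
  exact K885.Vanish.exists_iso D s.i t.i t.p t.w t.ex (isCoh_of_rank r1) (isCoh_of_rank r2)
    (by rw [rk_of_rank r1, rk_of_rank r2]) (by rw [dg_of_rank L r1, dg_of_rank L r2, d1, d2]) h

include hdim in
/-- **ISO**: for two subbundles over a field with `S₁ → V/S₂` zero, `E₁ ≅ E₂` and `F₁ ≅ F₂`. -/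
theorem iso_of_zero (hN : PicF.IsInvertible N) (h : s.i ≫ t.p = 0) :
    Nonempty (s.E ≅ t.E) ∧ Nonempty (s.F ≅ t.F) := by
  obtain ⟨a, ha⟩ := exists_iso_S hdim s t h
  exact iso_of_iso s t hN a ha

include hdim in
/-- **VANISH**: `T(E₁, F₂) = 0` if `S₁ → V/S₂` is not zero. -/
theorem thetaIdeal_eq_bot [IsAlgClosed k] [CharZero k] {g : ℕ} (hg : Curv2.genus k X = g) (hN : PicF.IsInvertible N)
    (hNd : Curv2.deg k X N 1 = (g : ℤ) - 1) (h : s.i ≫ t.p ≠ 0) :
    thetaIdeal k N (SpA k L) (CohB1.tensorMod s.E t.F) = ⊥ := by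
  have hG := K706.TensFam.ussOK_tens_zero hdim s.okE t.okF
  have hNv : FlatMod.IsFinLocFree N := isFinLocFree_of_rank (rank_one_iff.2 hN)
  have h3 := K54.Theta.isFinLocFree_tw (isFinLocFree_of_rank hG.1) hNv
  rw [thetaIdeal_eq_bot_iff L hdim.le h3]
  intro h1
  apply h
  have hX : IsIntegral X := K705.Setup.isIntegral_of_geomConn k X
  have hχ : Curv2.euler k X (Coh.structureModule X) = 1 - (g : ℤ) := by
    rw [K703.Chi.euler_structure k hdim, hg]
  have h2 := (K54.Supp.subsingleton_iff hdim.le (Spec.map (CommRingCat.ofHom (algebraMap k L)))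
    (Desc.FinLocFreeSections.isFP_of_isFinLocFree h3) (euler_zero hdim L hN hNd hχ hG)).2 h1
  obtain ⟨p₁⟩ := s.pair
  obtain ⟨q₂⟩ := t.tw
  let e : CohB1.tensorMod (CohB1.tensorMod s.E t.F) (cst k (SpA k L) N) ≅ CohB1.tensorMod t.Q s.E :=
    α_ s.E t.F (cst k (SpA k L) N) ≪≫ whiskerLeftIso s.E q₂ ≪≫ β_ s.E t.Q
  exact (K708.HomH0.forall_hom_eq_zero_iff s.S s.E t.Q).2 (K708.HomH0.subsingleton_HH_iso e h2) _

include hdim in
/-- **VANISH + ISO**: either `E₁ ≅ E₂` and `F₁ ≅ F₂`, or the theta ideal of `E₁ ⊗ F₂` is zero. -/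
theorem iso_or_eq_bot [IsAlgClosed k] [CharZero k] {g : ℕ} (hg : Curv2.genus k X = g) (hN : PicF.IsInvertible N)
    (hNd : Curv2.deg k X N 1 = (g : ℤ) - 1) :
    (Nonempty (s.E ≅ t.E) ∧ Nonempty (s.F ≅ t.F)) ∨
      thetaIdeal k N (SpA k L) (CohB1.tensorMod s.E t.F) = ⊥ := by
  by_cases h : s.i ≫ t.p = 0
  · exact Or.inl (iso_of_zero hdim s t hN h)
  · exact Or.inr (thetaIdeal_eq_bot hdim s t hg hN hNd h)

end field

end K885.SdVan
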